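import Cfsg.Agent.Lib.Golay.Masks

/-!
Data for the Sylow 2-subgroups of the five groups of code automorphisms: chain generators, the
central involution, conjugation steps, words, and octads fixed by odd elements of the normalizers.
-/

set_option autoImplicit false

namespace CfsgLib.FusionMathieu

/-- Chain generators for M24. -/
def m24Gens : List (List ℕ) := [
    [9, 1, 22, 18, 17, 13, 6, 21, 20, 4, 2, 16, 23, 7, 10, 15, 3, 0, 11, 19, 8, 5, 14, 12],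
    [1, 14, 6, 22, 8, 7, 4, 5, 2, 18, 3, 9, 15, 21, 20, 12, 10, 11, 17, 23, 0, 13, 16, 19],
    [1, 0, 6, 17, 8, 7, 2, 5, 4, 16, 11, 10, 19, 21, 20, 23, 9, 3, 22, 12, 14, 13, 18, 15],
    [22, 11, 9, 20, 17, 5, 3, 7, 16, 14, 2, 8, 15, 13, 10, 12, 1, 0, 6, 23, 18, 21, 4, 19],
    [4, 8, 14, 18, 2, 12, 20, 23, 6, 10, 22, 16, 5, 15, 0, 13, 3, 9, 11, 21, 1, 19, 17, 7],
    [1, 2, 6, 9, 20, 23, 0, 12, 4, 11, 18, 22, 7, 19, 8, 21, 10, 16, 17, 13, 14, 15, 3, 5],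
    [6, 0, 1, 9, 8, 19, 2, 15, 14, 11, 18, 22, 21, 23, 20, 7, 10, 16, 17, 5, 4, 12, 3, 13],
    [3, 22, 11, 2, 18, 13, 9, 21, 17, 1, 8, 0, 15, 5, 16, 12, 4, 20, 14, 23, 10, 7, 6, 19],
    [18, 17, 16, 14, 3, 13, 10, 21, 22, 8, 1, 4, 15, 5, 11, 12, 0, 6, 2, 23, 9, 7, 20, 19],
    [2, 6, 0, 11, 14, 5, 1, 7, 20, 22, 17, 3, 12, 13, 4, 15, 18, 10, 16, 19, 8, 21, 9, 23]]

/-- Central involution for M24. -/
def m24Z : List ℕ :=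
  [2, 6, 0, 11, 14, 5, 1, 7, 20, 22, 17, 3, 12, 13, 4, 15, 18, 10, 16, 19, 8, 21, 9, 23]

/-- Conjugation steps for M24. -/
def m24Steps : List (List ℕ × List ℕ × List ℕ) := [
    ([22, 11, 17, 12, 23, 5, 18, 4, 20, 6, 3, 15, 2, 0, 19, 13, 10, 16, 9, 14, 8, 21, 1, 7],
      [0],
      [0, 6, 2, 16, 4, 5, 1, 7, 20, 10, 9, 18, 15, 13, 14, 12, 3, 22, 11, 23, 8, 21, 17, 19]),
    ([17, 10, 4, 16, 9, 23, 14, 6, 2, 20, 19, 18, 5, 12, 0, 7, 13, 15, 21, 11, 22, 1, 8, 3],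
      [0],
      [9, 1, 22, 3, 17, 5, 6, 7, 20, 0, 14, 11, 12, 21, 10, 19, 18, 4, 16, 15, 8, 13, 2, 23]),
    ([12, 20, 1, 22, 8, 17, 16, 21, 10, 11, 18, 9, 14, 6, 2, 5, 15, 0, 4, 7, 13, 3, 23, 19],
      [2, 0],
      [2, 11, 0, 6, 4, 7, 3, 5, 18, 22, 10, 1, 23, 13, 14, 15, 20, 17, 8, 19, 16, 21, 9, 12]),
    ([8, 1, 4, 2, 6, 7, 11, 0, 22, 3, 14, 5, 20, 17, 21, 12, 15, 18, 19, 9, 23, 10, 13, 16],
      [1, 2, 1, 0],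
      [0, 11, 2, 6, 14, 5, 3, 7, 18, 9, 17, 1, 12, 21, 4, 19, 20, 10, 8, 15, 16, 13, 22, 23]),
    ([14, 9, 20, 5, 6, 22, 11, 18, 16, 12, 19, 7, 8, 3, 2, 4, 23, 13, 15, 0, 10, 17, 21, 1],
      [4, 1, 3],
      [1, 0, 6, 17, 8, 7, 2, 5, 4, 16, 11, 10, 19, 21, 20, 23, 9, 3, 22, 12, 14, 13, 18, 15]),
    ([22, 6, 20, 2, 9, 7, 8, 23, 1, 5, 19, 12, 4, 18, 10, 15, 21, 0, 3, 16, 17, 14, 11, 13],
      [4, 2, 5, 4, 2],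
      [3, 22, 11, 0, 16, 12, 9, 23, 10, 6, 8, 2, 5, 15, 18, 13, 4, 20, 14, 21, 17, 19, 1, 7])]

/-- Words for M24. -/
def m24Words : List (List ℕ) := [
    [6, 2, 1, 6, 3, 2],
    [2, 5, 4],
    [5],
    [4, 2, 1, 0],
    [5, 3, 2, 1, 6],
    [6, 3, 2],
    [1, 6, 3, 2, 1],
    [6, 5, 6, 3, 2, 1],
    [3, 6, 4, 5, 6, 1],
    [0]]

/-- Invariant masks for M24. -/
def m24Bases : List (ℕ × ℕ) := [(16777215, 8)]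

/-- Octad for M24. -/
def m24Oct : ℕ := 11055264

/-- Chain generators for M23. -/
def m23Gens : List (List ℕ) := [
    [0, 6, 19, 7, 22, 2, 10, 17, 15, 16, 18, 3, 9, 12, 1, 8, 13, 21, 5, 14, 4, 20, 11, 23],
    [0, 14, 1, 10, 20, 18, 5, 3, 15, 9, 22, 6, 16, 13, 21, 8, 12, 4, 11, 17, 19, 2, 7, 23],
    [0, 5, 20, 6, 4, 1, 3, 7, 15, 13, 19, 11, 12, 9, 22, 8, 16, 18, 17, 10, 2, 21, 14, 23],
    [0, 7, 18, 17, 1, 4, 14, 5, 15, 13, 21, 10, 12, 9, 2, 8, 16, 20, 6, 11, 22, 19, 3, 23],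
    [0, 20, 10, 5, 18, 3, 19, 14, 8, 9, 2, 22, 12, 13, 7, 15, 16, 21, 4, 6, 1, 17, 11, 23],
    [0, 6, 5, 10, 17, 2, 1, 22, 8, 9, 3, 14, 12, 13, 11, 15, 16, 4, 21, 20, 19, 18, 7, 23],
    [0, 5, 6, 20, 7, 1, 2, 4, 8, 9, 19, 21, 12, 13, 18, 15, 16, 22, 14, 10, 3, 11, 17, 23]]

/-- Central involution for M23. -/
def m23Z : List ℕ :=
  [0, 5, 6, 20, 7, 1, 2, 4, 8, 9, 19, 21, 12, 13, 18, 15, 16, 22, 14, 10, 3, 11, 17, 23]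

/-- Conjugation steps for M23. -/
def m23Steps : List (List ℕ × List ℕ × List ℕ) := [
    ([12, 15, 22, 14, 1, 8, 17, 19, 6, 2, 13, 5, 16, 3, 11, 20, 0, 7, 4, 9, 18, 10, 21, 23],
      [0],
      [0, 19, 2, 3, 11, 10, 6, 21, 15, 13, 5, 4, 12, 9, 18, 8, 16, 22, 14, 1, 20, 7, 17, 23]),
    ([0, 3, 17, 8, 14, 12, 22, 9, 11, 4, 16, 18, 6, 5, 19, 10, 2, 7, 21, 20, 15, 13, 1, 23],
      [1],
      [0, 7, 2, 20, 5, 4, 6, 1, 8, 13, 11, 10, 16, 9, 18, 15, 12, 17, 14, 21, 3, 19, 22, 23]),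
    ([22, 9, 20, 19, 21, 4, 18, 14, 13, 1, 16, 3, 17, 5, 6, 12, 8, 2, 0, 7, 11, 10, 15, 23],
      [1, 0],
      [0, 5, 2, 14, 7, 1, 6, 4, 8, 16, 21, 19, 13, 12, 3, 15, 9, 17, 20, 11, 18, 10, 22, 23]),
    ([16, 14, 2, 20, 11, 1, 21, 6, 15, 8, 10, 3, 9, 12, 19, 0, 13, 18, 22, 17, 7, 4, 5, 23],
      [0],
      [0, 14, 21, 4, 3, 18, 11, 20, 8, 9, 17, 6, 12, 13, 1, 15, 16, 10, 5, 22, 7, 2, 19, 23])]

/-- Words for M23. -/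
def m23Words : List (List ℕ) := [
    [2, 4, 3, 1],
    [2, 1, 4],
    [4, 1, 4],
    [4, 1, 3, 4, 3],
    [3, 4, 3],
    [1, 3, 4, 3, 1],
    [0]]

/-- Invariant masks for M23. -/
def m23Bases : List (ℕ × ℕ) := [(16777215, 1), (16777215, 2), (16777215, 4)]

/-- Octad for M23. -/
def m23Oct : ℕ := 8499969

/-- Chain generators for M22. -/
def m22Gens : List (List ℕ) := [
    [0, 12, 2, 9, 21, 5, 15, 14, 8, 3, 16, 18, 1, 13, 7, 6, 10, 22, 11, 19, 20, 4, 17, 23],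
    [0, 17, 2, 11, 15, 19, 14, 1, 13, 7, 4, 12, 21, 8, 16, 18, 22, 9, 10, 5, 20, 3, 6, 23],
    [0, 9, 2, 12, 18, 5, 16, 17, 8, 1, 15, 21, 3, 13, 22, 10, 6, 7, 4, 19, 20, 11, 14, 23],
    [0, 10, 20, 21, 17, 5, 11, 18, 8, 1, 15, 12, 22, 19, 3, 9, 14, 7, 4, 13, 2, 16, 6, 23],
    [0, 18, 2, 21, 9, 5, 22, 10, 8, 4, 7, 12, 11, 13, 16, 17, 14, 15, 1, 19, 20, 3, 6, 23],
    [0, 1, 20, 21, 7, 8, 11, 4, 5, 10, 9, 6, 22, 13, 16, 15, 14, 17, 18, 19, 2, 3, 12, 23],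
    [0, 15, 2, 16, 7, 5, 12, 4, 8, 10, 9, 22, 6, 13, 21, 1, 3, 18, 17, 19, 20, 14, 11, 23]]

/-- Central involution for M22. -/
def m22Z : List ℕ :=
  [0, 15, 2, 16, 7, 5, 12, 4, 8, 10, 9, 22, 6, 13, 21, 1, 3, 18, 17, 19, 20, 14, 11, 23]

/-- Conjugation steps for M22. -/
def m22Steps : List (List ℕ × List ℕ × List ℕ) := [
    ([0, 18, 20, 13, 9, 11, 8, 15, 22, 17, 7, 6, 5, 21, 16, 4, 19, 10, 1, 14, 2, 3, 12, 23],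
      [0],
      [0, 10, 2, 16, 18, 8, 12, 17, 5, 15, 1, 11, 6, 19, 14, 9, 3, 7, 4, 13, 20, 21, 22, 23]),
    ([0, 10, 11, 21, 9, 8, 20, 18, 5, 1, 7, 6, 2, 3, 19, 17, 14, 15, 4, 16, 22, 13, 12, 23],
      [0],
      [0, 7, 20, 3, 15, 5, 12, 1, 8, 18, 17, 11, 6, 19, 21, 4, 16, 10, 9, 13, 2, 14, 22, 23]),
    ([0, 11, 8, 16, 17, 22, 6, 7, 1, 21, 15, 2, 18, 14, 5, 10, 4, 3, 12, 9, 19, 20, 13, 23],
      [1],
      [0, 22, 2, 7, 16, 5, 18, 3, 8, 14, 21, 15, 17, 13, 9, 11, 4, 12, 6, 19, 20, 10, 1, 23]),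
    ([0, 22, 20, 6, 17, 1, 21, 11, 10, 19, 16, 8, 4, 9, 18, 7, 13, 5, 12, 2, 15, 14, 3, 23],
      [1, 3, 1],
      [0, 1, 2, 16, 17, 13, 12, 18, 19, 9, 10, 21, 6, 5, 22, 15, 3, 4, 7, 8, 20, 11, 14, 23])]

/-- Words for M22. -/
def m22Words : List (List ℕ) := [
    [2, 1, 3, 2, 1],
    [3, 2, 3, 4, 2],
    [4, 3, 4, 3],
    [1, 3, 2, 1, 3],
    [2, 3, 2, 1, 3, 1],
    [3, 2, 1, 3],
    [0]]

/-- Invariant masks for M22. -/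
def m22Bases : List (ℕ × ℕ) := [(16777215, 1), (16777215, 2), (16777215, 4)]

/-- Octad for M22. -/
def m22Oct : ℕ := 9969957

/-- Chain generators for M12. -/
def m12Gens : List (List ℕ) := [
    [2, 13, 3, 8, 18, 21, 12, 17, 6, 0, 23, 14, 16, 4, 10, 15, 9, 19, 1, 20, 11, 5, 22, 7],
    [3, 4, 8, 6, 1, 5, 16, 19, 12, 2, 7, 10, 9, 18, 23, 15, 0, 20, 13, 11, 14, 21, 22, 17],
    [12, 13, 0, 8, 18, 5, 2, 17, 16, 3, 20, 14, 6, 1, 7, 15, 9, 11, 4, 23, 19, 21, 22, 10],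
    [8, 13, 3, 2, 18, 21, 9, 23, 0, 6, 17, 20, 16, 1, 19, 22, 12, 10, 4, 14, 11, 5, 15, 7],
    [8, 1, 3, 12, 4, 22, 9, 23, 6, 0, 14, 20, 16, 13, 19, 21, 2, 10, 18, 17, 7, 15, 5, 11],
    [6, 1, 12, 16, 4, 5, 0, 11, 9, 8, 19, 7, 2, 13, 17, 15, 3, 14, 18, 10, 23, 21, 22, 20]]

/-- Central involution for M12. -/
def m12Z : List ℕ :=
  [6, 1, 12, 16, 4, 5, 0, 11, 9, 8, 19, 7, 2, 13, 17, 15, 3, 14, 18, 10, 23, 21, 22, 20]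

/-- Conjugation steps for M12. -/
def m12Steps : List (List ℕ × List ℕ × List ℕ) := [
    ([1, 6, 3, 8, 18, 5, 4, 11, 2, 9, 20, 7, 16, 0, 15, 21, 12, 22, 13, 17, 23, 10, 19, 14],
      [0],
      [0, 4, 9, 16, 1, 5, 6, 11, 12, 2, 10, 7, 8, 13, 23, 22, 3, 20, 18, 19, 17, 21, 15, 14]),
    ([6, 2, 9, 18, 4, 5, 16, 11, 0, 3, 17, 19, 8, 1, 15, 23, 13, 22, 12, 14, 7, 20, 21, 10],
      [0],
      [3, 1, 2, 0, 4, 5, 16, 10, 9, 8, 7, 19, 12, 18, 17, 22, 6, 14, 13, 11, 20, 21, 15, 23]),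
    ([6, 2, 13, 3, 18, 23, 4, 11, 16, 0, 10, 17, 12, 8, 5, 7, 1, 21, 9, 14, 20, 15, 19, 22],
      [2],
      [16, 4, 2, 6, 1, 21, 3, 19, 9, 8, 11, 10, 12, 13, 17, 15, 0, 14, 18, 7, 20, 5, 22, 23]),
    ([16, 18, 4, 0, 1, 7, 3, 20, 13, 2, 15, 11, 12, 6, 10, 17, 9, 5, 8, 21, 19, 23, 14, 22],
      [1, 0],
      [0, 18, 12, 16, 13, 22, 6, 7, 8, 9, 19, 11, 2, 4, 17, 21, 3, 14, 1, 10, 20, 15, 5, 23]),
    ([6, 2, 1, 16, 18, 15, 12, 10, 9, 4, 17, 11, 0, 13, 20, 5, 8, 21, 3, 23, 7, 14, 19, 22],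
      [4, 1, 3],
      [9, 4, 3, 2, 1, 15, 8, 20, 6, 0, 17, 23, 16, 18, 19, 5, 12, 10, 13, 14, 7, 22, 21, 11])]

/-- Words for M12. -/
def m12Words : List (List ℕ) := [
    [1, 5, 4],
    [2, 1],
    [4, 1, 5, 1],
    [5, 4, 0],
    [2, 5, 1],
    [0]]

/-- Invariant masks for M12. -/
def m12Bases : List (ℕ × ℕ) := [(340831, 4), (16436384, 4)]

/-- Octad for M12. -/
def m12Oct : ℕ := 6594610

/-- Chain generators for M11. -/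
def m11Gens : List (List ℕ) := [
    [0, 3, 4, 2, 16, 20, 6, 14, 1, 13, 11, 17, 18, 9, 5, 10, 12, 15, 8, 7, 21, 23, 19, 22],
    [0, 4, 3, 18, 16, 19, 6, 14, 1, 9, 11, 10, 2, 13, 21, 17, 8, 15, 12, 22, 5, 23, 20, 7],
    [0, 12, 4, 1, 18, 14, 6, 20, 2, 9, 15, 17, 16, 13, 22, 10, 3, 11, 8, 7, 21, 19, 23, 5],
    [0, 16, 18, 12, 8, 22, 6, 21, 4, 9, 10, 11, 3, 13, 23, 15, 1, 17, 2, 20, 19, 7, 5, 14]]

/-- Central involution for M11. -/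
def m11Z : List ℕ :=
  [0, 16, 18, 12, 8, 22, 6, 21, 4, 9, 10, 11, 3, 13, 23, 15, 1, 17, 2, 20, 19, 7, 5, 14]

/-- Conjugation steps for M11. -/
def m11Steps : List (List ℕ × List ℕ × List ℕ) := [
    ([0, 18, 8, 16, 9, 7, 3, 20, 13, 12, 22, 10, 2, 6, 11, 5, 1, 17, 4, 14, 19, 23, 21, 15],
      [0],
      [0, 18, 16, 3, 8, 5, 6, 21, 4, 13, 10, 15, 12, 9, 19, 11, 2, 17, 1, 14, 23, 7, 22, 20]),
    ([0, 8, 12, 3, 6, 17, 16, 11, 1, 18, 15, 21, 4, 2, 7, 5, 9, 23, 13, 20, 22, 14, 10, 19],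
      [1, 0],
      [0, 1, 18, 4, 3, 21, 6, 22, 12, 13, 17, 11, 8, 9, 14, 15, 16, 10, 2, 20, 19, 5, 7, 23]),
    ([0, 1, 3, 8, 18, 14, 13, 22, 2, 6, 17, 10, 4, 9, 21, 15, 16, 11, 12, 19, 20, 5, 23, 7],
      [2, 1],
      [0, 3, 8, 16, 2, 23, 6, 19, 18, 9, 15, 17, 1, 13, 5, 10, 12, 11, 4, 21, 7, 20, 14, 22])]

/-- Words for M11. -/
def m11Words : List (List ℕ) := [
    [3, 2],
    [3, 1, 2],
    [3, 0],
    [0]]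

/-- Invariant masks for M11. -/
def m11Bases : List (ℕ × ℕ) := [(16777215, 1), (16777215, 2), (16777215, 4)]

/-- Octad for M11. -/
def m11Oct : ℕ := 175681

end CfsgLib.FusionMathieu
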