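import Cfsg.Agent.Lib.FusionMathieu.Check
import Cfsg.Agent.Lib.FusionMathieu.Data
import Cfsg.Prelude.Def_Spor_Mathieu

/-!
Membership tests and orders for the five groups.
-/

set_option autoImplicit false

namespace CfsgLib.FusionMathieu

open Cfsg CfsgLib.Golay
open scoped Pointwise

/-- Test for the group of the code. -/
def inG24 (l : List ℕ) : Bool := isPres l
/-- Test for the stabilizer of the extra point. -/
def inG23 (l : List ℕ) : Bool := isPres l && Nat.beq (l.getD 23 0) 23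
/-- Test for the stabilizer of two points. -/
def inG22 (l : List ℕ) : Bool := inG23 l && Nat.beq (l.getD 0 0) 0
/-- Test for the stabilizer of the dodecad of squares. -/
def inG12 (l : List ℕ) : Bool := isPres l && Nat.beq (pmap l 340831) 340831
/-- Test for the stabilizer of the dodecad of squares and the point zero. -/
def inG11 (l : List ℕ) : Bool := inG12 l && Nat.beq (l.getD 0 0) 0

theorem stab_iff (σ : Equiv.Perm GolayPt) (p : GolayPt) :
    σ ∈ MulAction.stabilizer (Equiv.Perm GolayPt) p ↔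
      Nat.beq ((toList σ).getD (idx p).val 0) (idx p).val = true := by
  rw [MulAction.mem_stabilizer_iff, Equiv.Perm.smul_def, toList_getD]
  exact ⟨fun e => by rw [e]; exact Nat.beq_refl _,
    fun e => idx_injective (Fin.ext (Nat.eq_of_beq_eq_true e))⟩

theorem squareDodecad_eq : Cfsg.Spor.squareDodecad = decS 340831 := by decide +kernel

theorem squareDodecad_mem : Cfsg.Spor.squareDodecad ∈ dodecads := by
  rw [squareDodecad_eq, mem_dodecads, encS_decS (by norm_num)]
  decide +kernel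

theorem some_zero_mem : (some 0 : GolayPt) ∈ Cfsg.Spor.squareDodecad := by
  rw [squareDodecad_eq, mem_decS]; decide +kernel

theorem mem_M24_iff' (σ : Equiv.Perm GolayPt) : σ ∈ M24 ↔ inG24 (toList σ) = true := mem_M24_iff_isPres

theorem mem_M23_iff (σ : Equiv.Perm GolayPt) : σ ∈ Cfsg.Spor.M23 ↔ inG23 (toList σ) = true := by
  rw [Cfsg.Spor.M23, Subgroup.mem_inf, mem_M24_iff_isPres, stab_iff, inG23, Bool.and_eq_true]
  exact Iff.rfl

theorem mem_M22_iff (σ : Equiv.Perm GolayPt) : σ ∈ Cfsg.Spor.M22 ↔ inG22 (toList σ) = true := by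
  rw [Cfsg.Spor.M22, Subgroup.mem_inf, mem_M23_iff, stab_iff, inG22, Bool.and_eq_true]
  exact Iff.rfl

theorem mem_M12_iff (σ : Equiv.Perm GolayPt) : σ ∈ Cfsg.Spor.M12 ↔ inG12 (toList σ) = true := by
  rw [Cfsg.Spor.M12, Subgroup.mem_inf, mem_M24_iff_isPres, inG12, Bool.and_eq_true,
    MulAction.mem_stabilizer_iff, squareDodecad_eq]
  refine and_congr Iff.rfl ⟨fun e => ?_, fun e => ?_⟩
  · have := congrArg encS e
    rw [encS_smul, encS_decS (by norm_num)] at this
    rw [this]; exact Nat.beq_refl _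
  · apply encS_injective
    rw [encS_smul, encS_decS (by norm_num)]
    exact Nat.eq_of_beq_eq_true e

theorem mem_M11_iff (σ : Equiv.Perm GolayPt) : σ ∈ Cfsg.Spor.M11 ↔ inG11 (toList σ) = true := by
  rw [Cfsg.Spor.M11, Subgroup.mem_inf, mem_M12_iff, stab_iff, inG11, Bool.and_eq_true]
  exact Iff.rfl

theorem M23_le : Cfsg.Spor.M23 ≤ M24 := inf_le_left
theorem M22_le : Cfsg.Spor.M22 ≤ M24 := inf_le_left.trans inf_le_left
theorem M12_le : Cfsg.Spor.M12 ≤ M24 := inf_le_left
theorem M11_le : Cfsg.Spor.M11 ≤ M24 := inf_le_left.trans inf_le_left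

theorem M23_eq : Cfsg.Spor.M23 = stdStab 1 := by
  ext σ
  rw [Cfsg.Spor.M23, stdStab, mem_fixPts, Subgroup.mem_inf, MulAction.mem_stabilizer_iff]
  simp [basePts]

theorem M22_eq : Cfsg.Spor.M22 = stdStab 2 := by
  ext σ
  rw [Cfsg.Spor.M22, Cfsg.Spor.M23, stdStab, mem_fixPts, Subgroup.mem_inf, Subgroup.mem_inf,
    MulAction.mem_stabilizer_iff, MulAction.mem_stabilizer_iff]
  simp [basePts, and_assoc]

theorem card_M23 : Nat.card Cfsg.Spor.M23 = 10200960 := by
  rw [M23_eq]; exact natCard_stdStab 1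

theorem card_M22 : Nat.card Cfsg.Spor.M22 = 443520 := by
  rw [M22_eq]; exact natCard_stdStab 2

theorem card_M12 : Nat.card Cfsg.Spor.M12 = 95040 := natCard_dodStab squareDodecad_mem

theorem card_M11 : Nat.card Cfsg.Spor.M11 = 7920 := natCard_dodPtStab squareDodecad_mem some_zero_mem

theorem mem_decS_univ (p : GolayPt) : p ∈ decS 16777215 := by
  rw [mem_decS]; revert p; decide +kernel

theorem inv_univ {G : Subgroup (Equiv.Perm GolayPt)} (bases : List (ℕ × ℕ))
    (h : ∀ b ∈ bases, b.1 = 16777215) :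
    ∀ σ ∈ G, ∀ b ∈ bases, ∀ p, p ∈ decS b.1 → σ p ∈ decS b.1 := fun σ _ b hb p _ => by
  rw [h b hb]; exact mem_decS_univ _

theorem inv_M12 : ∀ σ ∈ Cfsg.Spor.M12, ∀ b ∈ m12Bases, ∀ p, p ∈ decS b.1 → σ p ∈ decS b.1 := by
  intro σ hσ b hb p hp
  have hiff : ∀ r, σ r ∈ decS 340831 ↔ r ∈ decS 340831 := fun r => by
    have h2 : σ • Cfsg.Spor.squareDodecad = Cfsg.Spor.squareDodecad := (Subgroup.mem_inf.mp hσ).2
    rw [squareDodecad_eq] at h2
    exact apply_mem_iff_of_smul_eq h2 r
  have hc : ∀ r : GolayPt, r ∈ decS 16436384 ↔ r ∉ decS 340831 := by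
    intro r
    simp only [mem_decS]
    revert r; decide +kernel
  simp only [m12Bases, List.mem_cons, List.not_mem_nil, or_false] at hb
  rcases hb with rfl | rfl
  · exact (hiff p).mpr hp
  · rw [hc] at hp ⊢
    rwa [hiff]

end CfsgLib.FusionMathieu
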