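import Cfsg.Agent.Lib.Golay.M24Group

/-!
Small 2-groups of permutations of the 24 points given by chains of generators, as lists of images.
-/

set_option autoImplicit false

namespace CfsgLib.FusionMathieu

open Cfsg CfsgLib.Golay

/-- The identity list. -/
def idL : List ℕ := List.range 24

/-- The inverse list. -/
def invList (l : List ℕ) : List ℕ := idL.map fun i => l.idxOf i

/-- The test that a list is a permutation of the positions. -/
def valid (l : List ℕ) : Bool :=
  (comp l (invList l) == idL) && (comp (invList l) l == idL) && l.all fun i => Nat.ble (i + 1) 24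

theorem exists_perm_of_valid {l : List ℕ} (h : valid l = true) :
    ∃ σ : Equiv.Perm GolayPt, toList σ = l := by
  simp only [valid, Bool.and_eq_true, beq_iff_eq, List.all_eq_true, Nat.ble_eq] at h
  obtain ⟨⟨h1, h2⟩, h3⟩ := h
  have hlen : l.length = 24 := by simpa [comp, idL] using congrArg List.length h2
  have hlt : ∀ i : Fin 24, l.getD i 0 < 24 := fun i => by
    rw [List.getD_eq_getElem _ _ (by rw [hlen]; exact i.isLt)]
    exact h3 _ (List.getElem_mem _)
  let f : Fin 24 → Fin 24 := fun i => ⟨l.getD i 0, hlt i⟩
  have hinj : Function.Injective f := by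
    intro i j hij
    have key : ∀ i : Fin 24, (invList l).getD (l.getD i 0) 0 = i := by
      intro i
      have hi : (i : ℕ) < (comp (invList l) l).length := by
        rw [comp, List.length_map, hlen]; exact i.isLt
      have := List.getElem_of_eq h2 hi
      simp only [comp, List.getElem_map, idL, List.getElem_range] at this
      rw [List.getD_eq_getElem l 0 (by rw [hlen]; exact i.isLt)]
      exact this
    apply Fin.ext
    rw [← key i, ← key j]
    exact congrArg (fun v : Fin 24 => (invList l).getD v.val 0) hij
  refine ⟨ptEquiv.permCongr (Equiv.ofBijective f hinj.bijective_of_finite), ?_⟩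
  apply List.ext_getElem (by rw [toList_length, hlen])
  intro i h1 h2'
  rw [toList_getElem]
  simp [ptEquiv, Equiv.permCongr_apply, idx_pt, f, List.getD_eq_getElem, h2']

/-- All products along a chain of generators. -/
def elts : List (List ℕ) → List (List ℕ)
  | [] => [idL]
  | g :: gs => let e := elts gs; e ++ e.map (comp g)

/-- Each generator normalizes the group of the later ones, has its square in it and is not in it. -/
def chainOk : List (List ℕ) → Bool
  | [] => true
  | g :: gs => chainOk gs && valid g &&
      (let e := elts gs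
       e.contains (comp g g) && !(e.contains g) && gs.all fun x => e.contains (comp (comp g x) g))

/-- The lists of the elements of a subgroup. -/
def IsListed (P : Subgroup (Equiv.Perm GolayPt)) (L : List (List ℕ)) : Prop :=
  (∀ σ, σ ∈ P ↔ toList σ ∈ L) ∧ ∀ l ∈ L, ∃ σ, toList σ = l

theorem exists_chain : ∀ gens : List (List ℕ), chainOk gens = true →
    ∃ P : Subgroup (Equiv.Perm GolayPt), IsListed P (elts gens) ∧ Nat.card P = 2 ^ gens.length ∧
      P = Subgroup.closure {σ | toList σ ∈ gens} := by
  intro gens
  induction gens with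
  | nil =>
    intro _
    refine ⟨⊥, ⟨fun σ => ?_, fun l hl => ?_⟩, by simp, by simp⟩
    · rw [Subgroup.mem_bot, elts, List.mem_singleton, idL, ← toList_one, toList_injective.eq_iff]
    · exact ⟨1, by rw [toList_one]; exact (List.mem_singleton.mp hl).symm⟩
  | cons g gs ih =>
    intro hok
    simp only [chainOk, Bool.and_eq_true, Bool.not_eq_true', List.all_eq_true,
      List.contains_iff_mem] at hok
    obtain ⟨⟨hgs, hv⟩, ⟨hsq, hnot⟩, hnorm⟩ := hok
    obtain ⟨H, ⟨hH, hex⟩, hcard, hclos⟩ := ih hgs
    obtain ⟨a, rfl⟩ := exists_perm_of_valid hv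
    have haH : a ∉ H := fun h => by
      have h' : (elts gs).contains (toList a) = true := List.contains_iff_mem.mpr ((hH a).mp h)
      rw [h'] at hnot
      exact Bool.noConfusion hnot
    have ha2 : a * a ∈ H := (hH _).mpr (by rw [toList_mul]; exact hsq)
    have hconj : ∀ x ∈ H, a * x * a⁻¹ ∈ H := by
      have hgen : H ≤ H.comap (MulAut.conj a).toMonoidHom := by
        nth_rw 1 [hclos]
        rw [Subgroup.closure_le]
        intro x hx
        have h1 : a * x * a ∈ H := (hH _).mpr (by rw [toList_mul, toList_mul]; exact hnorm _ hx)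
        show a * x * a⁻¹ ∈ H
        have h2 := H.mul_mem h1 (H.inv_mem ha2)
        rwa [mul_inv_rev, mul_assoc, mul_inv_cancel_left] at h2
      exact fun x hx => hgen hx
    have hconj' : ∀ x ∈ H, a⁻¹ * x * a ∈ H := by
      intro x hx
      have h1 := H.mul_mem (H.mul_mem (H.inv_mem ha2) (hconj x hx)) ha2
      rwa [show (a * a)⁻¹ * (a * x * a⁻¹) * (a * a) = a⁻¹ * x * a by group] at h1
    let K : Subgroup (Equiv.Perm GolayPt) :=
      { carrier := {σ | σ ∈ H ∨ a⁻¹ * σ ∈ H}
        one_mem' := Or.inl H.one_mem
        mul_mem' := by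
          rintro x y (hx | hx) (hy | hy)
          · exact Or.inl (H.mul_mem hx hy)
          · refine Or.inr ?_
            have := H.mul_mem (hconj' x hx) hy
            rwa [show a⁻¹ * x * a * (a⁻¹ * y) = a⁻¹ * (x * y) by group] at this
          · refine Or.inr ?_
            have := H.mul_mem hx hy
            rwa [mul_assoc] at this
          · refine Or.inl ?_
            have := H.mul_mem (H.mul_mem (hconj _ hx) ha2) hy
            rwa [show a * (a⁻¹ * x) * a⁻¹ * (a * a) * (a⁻¹ * y) = x * y by group] at this
        inv_mem' := by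
          rintro x (hx | hx)
          · exact Or.inl (H.inv_mem hx)
          · refine Or.inr ?_
            have := H.mul_mem (H.inv_mem ha2) (hconj _ (H.inv_mem hx))
            rwa [show (a * a)⁻¹ * (a * (a⁻¹ * x)⁻¹ * a⁻¹) = a⁻¹ * x⁻¹ by group] at this }
    have hKL : IsListed K (elts (toList a :: gs)) := by
      refine ⟨fun σ => ?_, fun l hl => ?_⟩
      · show σ ∈ H ∨ a⁻¹ * σ ∈ H ↔ _
        simp only [elts, List.mem_append, List.mem_map]
        refine or_congr (hH σ) ⟨fun h => ⟨_, (hH _).mp h, ?_⟩, ?_⟩
        · rw [← toList_mul, mul_inv_cancel_left]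
        · rintro ⟨l, hl, hle⟩
          obtain ⟨y, rfl⟩ := hex l hl
          rw [← toList_mul, toList_injective.eq_iff] at hle
          rw [← hle, inv_mul_cancel_left]
          exact (hH y).mpr hl
      · simp only [elts, List.mem_append, List.mem_map] at hl
        rcases hl with h | ⟨l', hl', rfl⟩
        · exact hex l h
        · obtain ⟨y, rfl⟩ := hex l' hl'
          exact ⟨a * y, toList_mul a y⟩
    refine ⟨K, hKL, ?_, ?_⟩
    · rw [List.length_cons, pow_succ, ← hcard]
      have hKset : (K : Set (Equiv.Perm GolayPt)) = (H : Set _) ∪ (fun y => a * y) '' (H : Set _) := by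
        ext σ
        show σ ∈ H ∨ a⁻¹ * σ ∈ H ↔ _
        simp only [Set.mem_union, Set.mem_image, SetLike.mem_coe]
        refine or_congr Iff.rfl ⟨fun h => ⟨_, h, by rw [mul_inv_cancel_left]⟩, ?_⟩
        rintro ⟨y, hy, rfl⟩
        rwa [inv_mul_cancel_left]
      show Nat.card (K : Set (Equiv.Perm GolayPt)) = _
      rw [Nat.card_coe_set_eq, hKset, Set.ncard_union_eq ?_ (Set.toFinite _) (Set.toFinite _),
        Set.ncard_image_of_injective _ (mul_right_injective a), ← Nat.card_coe_set_eq,
        SetLike.coe_sort_coe, mul_two]
      rw [Set.disjoint_left]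
      rintro σ hσ ⟨y, hy, rfl⟩
      exact haH ((Subgroup.mul_mem_cancel_right H hy).mp hσ)
    · refine le_antisymm ?_ ?_
      · rintro σ hσ
        have hH' : H ≤ Subgroup.closure {τ | toList τ ∈ toList a :: gs} := by
          rw [hclos]
          exact Subgroup.closure_mono fun τ hτ => List.mem_cons_of_mem _ hτ
        rcases hσ with h | h
        · exact hH' h
        · rw [← mul_inv_cancel_left a σ]
          exact mul_mem (Subgroup.subset_closure (List.mem_cons_self (a := toList a) (l := gs))) (hH' h)
      · rw [Subgroup.closure_le]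
        intro τ hτ
        rcases List.mem_cons.mp hτ with h | h
        · rw [toList_injective h]
          exact Or.inr (by rw [inv_mul_cancel]; exact H.one_mem)
        · exact Or.inl (by rw [hclos]; exact Subgroup.subset_closure h)

theorem exists_valid_of_chainOk : ∀ {gens : List (List ℕ)}, chainOk gens = true → ∀ l ∈ gens,
    ∃ σ : Equiv.Perm GolayPt, toList σ = l := by
  intro gens
  induction gens with
  | nil => intro _ l hl; exact absurd hl (by simp)
  | cons g gs ih =>
    intro h l hl
    simp only [chainOk, Bool.and_eq_true] at h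
    rcases List.mem_cons.mp hl with rfl | hl
    · exact exists_perm_of_valid h.1.2
    · exact ih h.1.1 l hl

end CfsgLib.FusionMathieu
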