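import Cfsg.Agent.Lib.FusionMathieu.Chain

/-!
Elements of odd prime order normalizing a listed 2-group of permutations: fixed points.
-/

set_option autoImplicit false

namespace CfsgLib.FusionMathieu

open Cfsg CfsgLib.Golay
open scoped Pointwise

/-- Mask of the positions satisfying a test. -/
def maskOf (f : ℕ → Bool) : ℕ := Nat.ofBits fun i : Fin 24 => f i.val

theorem maskOf_lt (f : ℕ → Bool) : maskOf f < 2 ^ 24 := Nat.ofBits_lt_two_pow _

theorem mem_decS_maskOf (f : ℕ → Bool) (p : GolayPt) :
    p ∈ decS (maskOf f) ↔ f (idx p).val = true := by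
  rw [mem_decS, maskOf, Nat.testBit_ofBits_lt _ _ (idx p).isLt]

/-- Orbit of a position. -/
def orbMask (L : List (List ℕ)) (i : ℕ) : ℕ := maskOf fun j => L.any fun y => Nat.beq (y.getD i 0) j

/-- The positions of a mask lying in orbits of a given length. -/
def classMask (L : List (List ℕ)) (m s : ℕ) : ℕ :=
  maskOf fun i => m.testBit i && Nat.beq (popc (orbMask L i)) s

/-- The lists fixing a position. -/
def fixL (L : List (List ℕ)) (i : ℕ) : List (List ℕ) := L.filter fun y => Nat.beq (y.getD i 0) i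

/-- The first position of a mask. -/
def firstBit (m : ℕ) : ℕ := ((List.range 24).find? fun i => m.testBit i).getD 0

/-- The test that odd prime order elements normalizing the group and the mask fix the mask. -/
def fixChk : ℕ → List (List ℕ) → ℕ → Bool
  | 0, _, _ => false
  | f + 1, L, m => Nat.ble (popc m) 2 ||
      (let w := firstBit m
       if (orbMask L w == m) && (16 % popc m == 0) then fixChk f (fixL L w) m
       else ((List.range 24).all fun i =>
              !(m.testBit i) || [1, 2, 4, 8].contains (popc (orbMask L i))) &&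
            [1, 2, 4, 8].all fun s => fixChk f L (classMask L m s))

variable {Q : Subgroup (Equiv.Perm GolayPt)} {L : List (List ℕ)}

theorem mem_orbMask (hQ : IsListed Q L) (p r : GolayPt) :
    r ∈ decS (orbMask L (idx p).val) ↔ ∃ y ∈ Q, y p = r := by
  rw [orbMask, mem_decS_maskOf, List.any_eq_true]
  constructor
  · rintro ⟨l, hl, he⟩
    obtain ⟨y, rfl⟩ := hQ.2 l hl
    refine ⟨y, (hQ.1 y).mpr hl, ?_⟩
    have := Nat.eq_of_beq_eq_true he
    rw [toList_getD] at this
    exact idx_injective (Fin.ext this)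
  · rintro ⟨y, hy, rfl⟩
    exact ⟨_, (hQ.1 y).mp hy, by rw [toList_getD]; exact Nat.beq_refl _⟩

theorem popc_orbMask_apply (hQ : IsListed Q L) {h : Equiv.Perm GolayPt}
    (hn : h ∈ Subgroup.normalizer (Q : Set (Equiv.Perm GolayPt))) (p : GolayPt) :
    popc (orbMask L (idx (h p)).val) = popc (orbMask L (idx p).val) := by
  have hlt : ∀ i, orbMask L i < 2 ^ 24 := fun i => maskOf_lt _
  rw [← card_decS (hlt _), ← card_decS (hlt _), eq_comm]
  refine Finset.card_bij (fun r _ => h r) (fun r hr => ?_) (fun r _ r' _ e => h.injective e)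
    (fun r hr => ?_)
  · obtain ⟨y, hy, rfl⟩ := (mem_orbMask hQ p r).mp hr
    exact (mem_orbMask hQ _ _).mpr ⟨h * y * h⁻¹, (Subgroup.mem_normalizer_iff.mp hn y).mp hy, by simp⟩
  · obtain ⟨y, hy, rfl⟩ := (mem_orbMask hQ _ r).mp hr
    refine ⟨h⁻¹ (y (h p)), (mem_orbMask hQ p _).mpr ⟨h⁻¹ * y * h, ?_, by simp⟩, by simp⟩
    exact (Subgroup.mem_normalizer_iff''.mp hn y).mp hy

theorem mem_iff_apply_mem {h : Equiv.Perm GolayPt} {X : Finset GolayPt} (hX : ∀ p ∈ X, h p ∈ X)
    (p : GolayPt) : h p ∈ X ↔ p ∈ X := by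
  refine ⟨fun hp => ?_, hX p⟩
  obtain ⟨r, hr, he⟩ := Finset.surj_on_of_inj_on_of_card_le (fun r (_ : r ∈ X) => h r) (fun r hr => hX r hr)
    (fun r r' _ _ e => h.injective e) le_rfl (h p) hp
  exact (h.injective he) ▸ hr

theorem apply_eq_of_card_le_two {h : Equiv.Perm GolayPt} {q : ℕ} (hq : q.Prime) (hq2 : q ≠ 2)
    (hh : h ^ q = 1) {X : Finset GolayPt} (hX : ∀ p ∈ X, h p ∈ X) (hc : X.card ≤ 2) {p : GolayPt}
    (hp : p ∈ X) : h p = p := by
  by_contra hne
  have h2 : h (h p) = p := by
    by_contra hne2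
    have : ({p, h p, h (h p)} : Finset GolayPt).card ≤ X.card := Finset.card_le_card (by
      intro r hr
      simp only [Finset.mem_insert, Finset.mem_singleton] at hr
      rcases hr with rfl | rfl | rfl
      exacts [hp, hX _ hp, hX _ (hX _ hp)])
    rw [Finset.card_insert_of_notMem (by simp [Ne.symm hne, Ne.symm hne2]),
      Finset.card_pair (fun e => hne (h.injective e).symm)] at this
    omega
  obtain ⟨k, hk⟩ := hq.eq_two_or_odd'.resolve_left hq2
  have h1 : (h ^ q) p = h p := by
    have : ∀ j : ℕ, (h ^ (2 * j)) p = p := by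
      intro j
      induction j with
      | zero => simp
      | succ j ih =>
        rw [Nat.mul_succ, pow_add, Equiv.Perm.mul_apply, pow_two, Equiv.Perm.mul_apply, h2, ih]
    rw [hk, pow_succ', Equiv.Perm.mul_apply, this]
  rw [hh] at h1
  exact hne h1.symm

theorem exists_fixed_of_dvd {h : Equiv.Perm GolayPt} {q : ℕ} (hq : q.Prime) (hq2 : q ≠ 2)
    (hh : h ^ q = 1) {X : Finset GolayPt} (hX : ∀ p ∈ X, h p ∈ X) (hc : 16 % X.card = 0) :
    ∃ p ∈ X, h p = p := by
  have : Fact q.Prime := ⟨hq⟩
  let σ : Equiv.Perm X := h.subtypePerm fun p => (mem_iff_apply_mem hX p)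
  have hσ : σ ^ q ^ 1 = 1 := by
    rw [pow_one]
    ext p
    simp [σ, Equiv.Perm.subtypePerm_pow, hh]
  obtain ⟨⟨p, hp⟩, he⟩ := Equiv.Perm.exists_fixed_point_of_prime (p := q) (n := 1) (α := X)
    (by
      rw [Fintype.card_coe]
      intro hd
      have h16 : q ∣ 2 ^ 4 := hd.trans (Nat.dvd_of_mod_eq_zero (by simpa using hc))
      exact hq2 ((Nat.prime_dvd_prime_iff_eq hq Nat.prime_two).mp (hq.dvd_of_dvd_pow h16))) hσ
  exact ⟨p, hp, congrArg Subtype.val he⟩

theorem fix_of_fixChk : ∀ (f : ℕ) {Q : Subgroup (Equiv.Perm GolayPt)} {L : List (List ℕ)} (m : ℕ),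
    IsListed Q L → fixChk f L m = true → m < 2 ^ 24 → ∀ (q : ℕ), q.Prime → q ≠ 2 →
    ∀ h : Equiv.Perm GolayPt, h ∈ Subgroup.normalizer (Q : Set (Equiv.Perm GolayPt)) → h ^ q = 1 →
      (∀ p ∈ decS m, h p ∈ decS m) → ∀ p ∈ decS m, h p = p := by
  intro f
  induction f with
  | zero => intro Q L m _ hf; simp [fixChk] at hf
  | succ f ih =>
    intro Q L m hQ hf hm q hq hq2 h hn hh hX p hp
    rw [fixChk, Bool.or_eq_true] at hf
    rcases hf with hf | hf
    · exact apply_eq_of_card_le_two hq hq2 hh hX (by rw [card_decS hm]; exact Nat.le_of_ble_eq_true hf) hp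
    dsimp only at hf
    split_ifs at hf with hif
    · -- transitive
      rw [Bool.and_eq_true, beq_iff_eq, beq_iff_eq] at hif
      obtain ⟨horb, h16⟩ := hif
      set w := firstBit m with hw
      have hwlt : w < 24 := by
        rw [hw, firstBit]
        cases hfd : (List.range 24).find? fun i => m.testBit i with
        | none => simp
        | some v => simpa using List.mem_of_find?_eq_some hfd
      set ω := pt ⟨w, hwlt⟩ with hω
      have hωi : (idx ω).val = w := by rw [hω, idx_pt]
      have horb' : ∀ r, r ∈ decS m ↔ ∃ y ∈ Q, y ω = r := fun r => by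
        have := mem_orbMask hQ ω r
        rwa [hωi, horb] at this
      obtain ⟨r, hr, hrfix⟩ := exists_fixed_of_dvd hq hq2 hh hX (by rw [card_decS hm]; exact h16)
      obtain ⟨y, hy, hyr⟩ := (horb' r).mp hr
      have hyX : ∀ s, y s ∈ decS m ↔ s ∈ decS m := fun s => by
        rw [horb', horb']
        constructor
        · rintro ⟨v, hv, he⟩
          exact ⟨y⁻¹ * v, Q.mul_mem (Q.inv_mem hy) hv, by simp [he]⟩
        · rintro ⟨v, hv, he⟩
          exact ⟨y * v, Q.mul_mem hy hv, by simp [he]⟩
      set h' := y⁻¹ * h * y with hh'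
      have hyn : y ∈ Subgroup.normalizer (Q : Set (Equiv.Perm GolayPt)) := Subgroup.le_normalizer hy
      have hh'n : h' ∈ Subgroup.normalizer (Q : Set (Equiv.Perm GolayPt)) :=
        mul_mem (mul_mem (inv_mem hyn) hn) hyn
      have hh'q : h' ^ q = 1 := by
        rw [hh', show y⁻¹ * h * y = (MulAut.conj y⁻¹) h by simp, ← map_pow, hh, map_one]
      have hh'ω : h' ω = ω := by
        rw [hh', Equiv.Perm.mul_apply, Equiv.Perm.mul_apply, hyr, hrfix, ← hyr]
        simp
      have hQ' : IsListed (Q ⊓ MulAction.stabilizer (Equiv.Perm GolayPt) ω) (fixL L w) := by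
        refine ⟨fun σ => ?_, fun l hl => hQ.2 l (List.mem_filter.mp hl).1⟩
        rw [Subgroup.mem_inf, MulAction.mem_stabilizer_iff, fixL, List.mem_filter, hQ.1]
        refine and_congr Iff.rfl ?_
        rw [← hωi, toList_getD]
        constructor
        · intro e
          rw [show σ ω = ω from e]
          exact Nat.beq_refl _
        · intro e
          exact idx_injective (Fin.ext (Nat.eq_of_beq_eq_true e))
      have hh'n' : h' ∈ Subgroup.normalizer
          ((Q ⊓ MulAction.stabilizer (Equiv.Perm GolayPt) ω : Subgroup _) : Set (Equiv.Perm GolayPt)) := by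
        refine Subgroup.mem_normalizer_iff.mpr fun v => ?_
        simp only [Subgroup.mem_inf, MulAction.mem_stabilizer_iff, Equiv.Perm.smul_def,
          Equiv.Perm.mul_apply]
        refine and_congr (Subgroup.mem_normalizer_iff.mp hh'n v) ?_
        have hinv : h'⁻¹ ω = ω := by
          conv_lhs => rw [← hh'ω]
          simp
        rw [hinv]
        constructor
        · intro e; rw [e, hh'ω]
        · intro e; exact h'.injective (by rw [e, hh'ω])
      have hX' : ∀ s ∈ decS m, h' s ∈ decS m := fun s hs => by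
        have h1 := hX _ ((hyX s).mpr hs)
        rw [← hyX]
        simpa [hh'] using h1
      have hp' : y⁻¹ p ∈ decS m := by rw [← hyX]; simpa using hp
      have := congrArg y (ih m hQ' hf hm q hq hq2 h' hh'n' hh'q hX' _ hp')
      simpa [hh'] using this
    · rw [Bool.and_eq_true, List.all_eq_true, List.all_eq_true] at hf
      obtain ⟨hcov, hcls⟩ := hf
      have h1 := hcov (idx p).val (List.mem_range.mpr (idx p).isLt)
      rw [mem_decS] at hp
      rw [hp] at h1
      simp only [Bool.not_true, Bool.false_or, List.contains_iff_mem] at h1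
      set s := popc (orbMask L (idx p).val) with hs
      have hmem : ∀ r, r ∈ decS (classMask L m s) ↔
          r ∈ decS m ∧ popc (orbMask L (idx r).val) = s := fun r => by
        rw [classMask, mem_decS_maskOf, Bool.and_eq_true, ← mem_decS]
        exact and_congr Iff.rfl ⟨Nat.eq_of_beq_eq_true, fun e => by rw [e]; exact Nat.beq_refl _⟩
      refine ih _ hQ (hcls s h1) (maskOf_lt _) q hq hq2 h hn hh (fun r hr => ?_) p
        ((hmem p).mpr ⟨mem_decS.mpr hp, rfl⟩)
      obtain ⟨hr1, hr2⟩ := (hmem r).mp hr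
      exact (hmem _).mpr ⟨hX r hr1, by rw [popc_orbMask_apply hQ hn, hr2]⟩

end CfsgLib.FusionMathieu
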