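import Cfsg.Agent.Lib.FusionMathieu.Frame
import Cfsg.Agent.Lib.FusionMathieu.Fix
import Cfsg.Agent.Lib.Golay.Dodecad

/-!
The checker: the data showing that a group of code automorphisms has a simple 2-fusion system.
-/

set_option autoImplicit false

namespace CfsgLib.FusionMathieu

open Cfsg CfsgLib.Golay
open scoped Pointwise

/-- A product of known elements. -/
def prodW (K : List (List ℕ)) (w : List ℕ) : List ℕ :=
  w.foldr (fun i acc => comp (K.getD i idL) acc) idL

/-- A program deriving conjugates of products of known elements, ending with words for generators. -/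
def stepsOk (inG : List ℕ → Bool) (E gens : List (List ℕ)) :
    List (List ℕ) → List (List ℕ × List ℕ × List ℕ) → List (List ℕ) → Bool
  | K, [], gw => gw.map (prodW K) == gens
  | K, (g, w, x) :: r, gw => inG g && valid g && E.contains x &&
      (comp g (prodW K w) == comp x g) && stepsOk inG E gens (K ++ [x]) r gw

/-- The test of the centre. -/
def centreOk (E gens : List (List ℕ)) (z : List ℕ) : Bool :=
  E.all fun w => !(gens.all fun y => comp w y == comp y w) || (w == idL || w == z)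

/-- The classes attached to invariant masks cover an octad and are fixed. -/
def octadOk (E : List (List ℕ)) (bases : List (ℕ × ℕ)) (o : ℕ) : Bool :=
  isCode o && Nat.beq (popc o) 8 && Nat.ble (o + 1) (2 ^ 24) &&
    (bases.all fun b => fixChk 12 E (classMask E b.1 b.2)) &&
    (List.range 24).all fun i => !(o.testBit i) || bases.any fun b => (classMask E b.1 b.2).testBit i

/-- The whole test. -/
def mathieuOk (inG : List ℕ → Bool) (gens : List (List ℕ)) (z : List ℕ)
    (steps : List (List ℕ × List ℕ × List ℕ)) (gw : List (List ℕ)) (bases : List (ℕ × ℕ))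
    (o : ℕ) : Bool :=
  chainOk gens && gens.all inG &&
    (let E := elts gens
     E.contains z && centreOk E gens z && stepsOk inG E gens [z] steps gw && octadOk E bases o)

variable {G : Subgroup (Equiv.Perm GolayPt)}

theorem prodW_mem {K : Subgroup G} {Ks : List (List ℕ)}
    (hKs : ∀ l ∈ Ks, ∃ σ : G, σ ∈ K ∧ toList σ.1 = l) (w : List ℕ) :
    ∃ σ : G, σ ∈ K ∧ toList σ.1 = prodW Ks w := by
  have hone : ∃ σ : G, σ ∈ K ∧ toList σ.1 = idL := ⟨1, K.one_mem, toList_one⟩
  induction w with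
  | nil => exact hone
  | cons i w ih =>
    obtain ⟨a, ha, hae⟩ := ih
    obtain ⟨b, hb, hbe⟩ : ∃ σ : G, σ ∈ K ∧ toList σ.1 = Ks.getD i idL := by
      by_cases hi : i < Ks.length
      · rw [List.getD_eq_getElem _ _ hi]; exact hKs _ (List.getElem_mem _)
      · rw [List.getD_eq_default _ _ (not_lt.mp hi)]; exact hone
    refine ⟨b * a, K.mul_mem hb ha, ?_⟩
    rw [Subgroup.coe_mul, toList_mul, hae, hbe]
    rfl

theorem gens_mem_of_stepsOk {inG : List ℕ → Bool} (hG : ∀ σ, σ ∈ G ↔ inG (toList σ) = true)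
    {E gens : List (List ℕ)} {P K : Subgroup G}
    (hP : ∀ l ∈ E, ∃ σ : G, σ ∈ P ∧ toList σ.1 = l)
    (hclosed : ∀ g : G, ∀ x ∈ K, g * x * g⁻¹ ∈ P → g * x * g⁻¹ ∈ K) :
    ∀ (steps : List (List ℕ × List ℕ × List ℕ)) (gw Ks : List (List ℕ)),
      (∀ l ∈ Ks, ∃ σ : G, σ ∈ K ∧ toList σ.1 = l) → stepsOk inG E gens Ks steps gw = true →
      ∀ l ∈ gens, ∃ σ : G, σ ∈ K ∧ toList σ.1 = l := by
  intro steps
  induction steps with
  | nil =>
    intro gw Ks hKs h l hl
    rw [stepsOk, beq_iff_eq] at h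
    rw [← h, List.mem_map] at hl
    obtain ⟨w, -, rfl⟩ := hl
    exact prodW_mem hKs w
  | cons st r ih =>
    obtain ⟨g, w, x⟩ := st
    intro gw Ks hKs h
    simp only [stepsOk, Bool.and_eq_true, beq_iff_eq, List.contains_iff_mem] at h
    obtain ⟨⟨⟨⟨hg, hv⟩, hx⟩, hconj⟩, hrest⟩ := h
    obtain ⟨g₀, rfl⟩ := exists_perm_of_valid hv
    obtain ⟨y, hy, hye⟩ := prodW_mem hKs w
    obtain ⟨x₀, hx₀, rfl⟩ := hP x hx
    let g₁ : G := ⟨g₀, (hG g₀).mpr hg⟩
    have he : g₁ * y * g₁⁻¹ = x₀ := by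
      rw [mul_inv_eq_iff_eq_mul]
      apply Subtype.ext
      apply toList_injective
      rw [Subgroup.coe_mul, Subgroup.coe_mul, toList_mul, toList_mul, hye]
      exact hconj
    refine ih gw _ (fun l hl => ?_) hrest
    rcases List.mem_append.mp hl with hl | hl
    · exact hKs l hl
    · exact ⟨x₀, he ▸ hclosed g₁ y hy (he ▸ hx₀), (List.mem_singleton.mp hl).symm⟩

theorem isSimple_of_check (inG : List ℕ → Bool) (hG : ∀ σ, σ ∈ G ↔ inG (toList σ) = true)
    (hM : G ≤ M24) (gens : List (List ℕ)) (z : List ℕ) (steps : List (List ℕ × List ℕ × List ℕ))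
    (gw : List (List ℕ)) (bases : List (ℕ × ℕ)) (o : ℕ)
    (hb : ∀ σ ∈ G, ∀ b ∈ bases, ∀ p, p ∈ decS b.1 → σ p ∈ decS b.1)
    (hne : gens ≠ []) (hdvd : ¬ 2 ^ (gens.length + 1) ∣ Nat.card G)
    (hok : mathieuOk inG gens z steps gw bases o = true) (S : Sylow 2 G) :
    (groupFusionSystem (S : Subgroup G)).IsSimple 2 := by
  simp only [mathieuOk, Bool.and_eq_true, List.all_eq_true, List.contains_iff_mem] at hok
  obtain ⟨⟨hchain, hgensG⟩, ⟨⟨hz, hcen⟩, hsteps⟩, hoct⟩ := hok
  obtain ⟨P₀, hP₀, hcard, hclos⟩ := exists_chain gens hchain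
  have hP₀G : P₀ ≤ G := by
    rw [hclos, Subgroup.closure_le]
    intro σ hσ
    exact (hG σ).mpr (hgensG _ hσ)
  let P : Subgroup G := P₀.subgroupOf G
  have hPcard : Nat.card P = 2 ^ gens.length := by
    rw [← hcard]
    exact Nat.card_congr (Subgroup.subgroupOfEquivOfLe hP₀G).toEquiv
  have hPlist : ∀ l ∈ elts gens, ∃ σ : G, σ ∈ P ∧ toList σ.1 = l := by
    intro l hl
    obtain ⟨σ, rfl⟩ := hP₀.2 l hl
    have hσ : σ ∈ P₀ := (hP₀.1 σ).mpr hl
    exact ⟨⟨σ, hP₀G hσ⟩, hσ, rfl⟩
  obtain ⟨z₀, hz₀, hz₀e⟩ := hPlist z hz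
  refine isSimple_of_frame S P (by simpa [List.length_eq_zero_iff] using hne) hPcard hdvd z₀ ?_ ?_ ?_
  · intro w hw hcomm
    have h := List.all_eq_true.mp hcen _ ((hP₀.1 w.1).mp hw)
    have h1 : (gens.all fun y => comp (toList w.1) y == comp y (toList w.1)) = true := by
      rw [List.all_eq_true]
      intro y hy
      obtain ⟨v, hv⟩ := hP₀.2 y (by
        obtain ⟨v, hv⟩ := exists_valid_of_chainOk hchain y hy
        rw [← hv]
        refine (hP₀.1 v).mp ?_
        rw [hclos]
        exact Subgroup.subset_closure (show toList v ∈ gens by rw [hv]; exact hy))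
      subst hv
      have hvP : v ∈ P₀ := by rw [hclos]; exact Subgroup.subset_closure hy
      rw [beq_iff_eq, ← toList_mul, ← toList_mul]
      exact congrArg (fun u : G => toList u.1) (hcomm ⟨v, hP₀G hvP⟩ hvP)
    rw [h1, Bool.not_true, Bool.false_or, Bool.or_eq_true, beq_iff_eq, beq_iff_eq] at h
    refine h.imp (fun e => ?_) (fun e => ?_)
    · exact Subtype.ext (toList_injective (e.trans toList_one.symm))
    · exact Subtype.ext (toList_injective (e.trans hz₀e.symm))
  · intro K hzK hclosed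
    have hg := gens_mem_of_stepsOk hG (P := P) (K := K) hPlist hclosed steps gw [z]
      (fun l hl => ⟨z₀, hzK, by rw [hz₀e, List.mem_singleton.mp hl]⟩) hsteps
    have hle : P₀ ≤ K.map G.subtype := by
      rw [hclos, Subgroup.closure_le]
      intro σ hσ
      obtain ⟨τ, hτ, he⟩ := hg _ hσ
      exact ⟨τ, hτ, toList_injective he⟩
    intro x hx
    obtain ⟨τ, hτ, he⟩ := hle hx
    rwa [← Subtype.ext (show τ.1 = x.1 from he)]
  · intro h hnorm q hq hq2 hh
    have hle : P₀ ≤ P₀.comap (MulAut.conj h.1).toMonoidHom := fun y hy => hnorm ⟨y, hP₀G hy⟩ hy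
    have hN : h.1 ∈ Subgroup.normalizer (P₀ : Set (Equiv.Perm GolayPt)) := by
      have heq : P₀.map (MulAut.conj h.1).toMonoidHom = P₀ := by
        refine CfsgLib.Fusion.eq_of_le_of_card_le (Subgroup.map_le_iff_le_comap.mpr hle) ?_
        rw [Subgroup.card_map_of_injective (MulAut.conj h.1).injective]
      refine Subgroup.mem_normalizer_iff.mpr fun y => ⟨fun hy => hle hy, fun hy => ?_⟩
      obtain ⟨v, hv, he⟩ := heq.ge hy
      rwa [← (MulAut.conj h.1).injective he]
    simp only [octadOk, Bool.and_eq_true, List.all_eq_true, Nat.ble_eq] at hoct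
    obtain ⟨⟨⟨⟨ho1, ho2⟩, ho3⟩, ho4⟩, ho5⟩ := hoct
    have holt : o < 2 ^ 24 := ho3
    have hhq : h.1 ^ q = 1 := by rw [← SubgroupClass.coe_pow, hh]; rfl
    have hfix : ∀ p ∈ decS o, h.1 p = p := by
      intro p hp
      rw [mem_decS] at hp
      have h1 := ho5 (idx p).val (List.mem_range.mpr (idx p).isLt)
      rw [hp, Bool.not_true, Bool.false_or, List.any_eq_true] at h1
      obtain ⟨b, hb', hbp⟩ := h1
      refine fix_of_fixChk 12 _ hP₀ (ho4 b hb') (maskOf_lt _) q hq hq2 h.1 hN hhq (fun r hr => ?_) p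
        (mem_decS.mpr hbp)
      rw [classMask, mem_decS_maskOf, Bool.and_eq_true, ← mem_decS] at hr ⊢
      exact ⟨hb h.1 h.2 b hb' r hr.1, by rw [popc_orbMask_apply hP₀ hN]; exact hr.2⟩
    have hoct8 : decS o ∈ octads := by
      rw [mem_octads, encS_decS holt]
      exact ⟨ho1, Nat.eq_of_beq_eq_true ho2⟩
    have hmem : h.1 ∈ M24 ⊓ fixingSubgroup (Equiv.Perm GolayPt) (decS o : Set GolayPt) :=
      Subgroup.mem_inf.mpr ⟨hM h.2, (mem_fixingSubgroup_iff _).mpr fun p hp => hfix p hp⟩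
    have hsq := (octad_fixing hoct8).2 _ hmem
    obtain ⟨k, hk⟩ := hq.eq_two_or_odd'.resolve_left hq2
    rw [hk, pow_succ, pow_mul, pow_two, hsq, one_pow, one_mul] at hhq
    exact Subtype.ext hhq

end CfsgLib.FusionMathieu
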