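import Cfsg.Agent.Lib.Fusion.Simple
import Cfsg.Agent.Lib.Fusion.Group

/-!
A criterion for the 2-fusion system of a finite group to be simple, stated on one fixed
2-subgroup of full order.
-/

set_option autoImplicit false

namespace CfsgLib.FusionMathieu

open Cfsg Cfsg.FusionSystem CfsgLib.Fusion CfsgLib.FusionExtend
open scoped Pointwise

variable {G : Type*} [Group G] [Finite G]

theorem exists_conj_mem_iff (S : Sylow 2 G) (P : Subgroup G) {k : ℕ} (hP : Nat.card P = 2 ^ k)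
    (hdvd : ¬ 2 ^ (k + 1) ∣ Nat.card G) :
    ∃ c : G, ∀ x : G, x ∈ (S : Subgroup G) ↔ c⁻¹ * x * c ∈ P := by
  have : Fact (Nat.Prime 2) := ⟨Nat.prime_two⟩
  obtain ⟨Q, hPQ⟩ := (IsPGroup.of_card hP).exists_le_sylow
  obtain ⟨j, hj⟩ := IsPGroup.iff_card.mp Q.2
  have hjk : j ≤ k := by
    by_contra hne
    exact hdvd ((pow_dvd_pow 2 (by omega)).trans (hj ▸ Subgroup.card_subgroup_dvd_card (Q : Subgroup G)))
  have hQP : P = (Q : Subgroup G) := by
    refine eq_of_le_of_card_le hPQ ?_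
    rw [hj, hP]
    exact Nat.pow_le_pow_right (by norm_num) hjk
  obtain ⟨c, hc⟩ := MulAction.exists_smul_eq G Q S
  refine ⟨c, fun x => ?_⟩
  rw [← hc, Sylow.coe_subgroup_smul, Subgroup.mem_pointwise_smul_iff_inv_smul_mem, hQP]
  simp [MulAut.smul_def]

/-- A nontrivial normal subgroup of a 2-group with centre of order two contains the central
involution. -/
theorem central_mem (P K : Subgroup G) {k : ℕ} (hP : Nat.card P = 2 ^ k) (z : G)
    (hcen : ∀ w ∈ P, (∀ y ∈ P, w * y = y * w) → w = 1 ∨ w = z)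
    (hKP : K ≤ P) (hnorm : ∀ y ∈ P, ∀ x ∈ K, y * x * y⁻¹ ∈ K) (hK : K ≠ ⊥) : z ∈ K := by
  have : Fact (Nat.Prime 2) := ⟨Nat.prime_two⟩
  let N : Subgroup P := K.subgroupOf P
  have hN : N.Normal := ⟨fun x hx y => hnorm y y.2 x hx⟩
  have hPp : IsPGroup 2 P := IsPGroup.of_card hP
  have : Group.IsNilpotent P := hPp.isNilpotent
  have hNne : N ≠ ⊥ := by
    intro h
    refine hK ((Subgroup.eq_bot_iff_forall _).mpr fun x hx => ?_)
    have h1 : (⟨x, hKP hx⟩ : P) ∈ N := hx
    rw [h, Subgroup.mem_bot] at h1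
    exact congrArg Subtype.val h1
  have : Nontrivial N := (Subgroup.nontrivial_iff_ne_bot N).mpr hNne
  have hfix : ∀ a : MulAction.fixedPoints (ConjAct P) N, ∀ y ∈ P, ((a : N) : P).1 * y = y * ((a : N) : P).1 := by
    intro a y hy
    have h1 := congrArg (fun v : N => ((v : P) : G)) (a.2 (ConjAct.toConjAct ⟨y, hy⟩))
    have h2 : y * ((a : N) : P).1 * y⁻¹ = ((a : N) : P).1 := h1
    exact (mul_inv_eq_iff_eq_mul.mp h2).symm
  have hdvd : 2 ∣ Nat.card N := by
    obtain ⟨j, hj⟩ := IsPGroup.iff_card.mp (hPp.to_subgroup N)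
    rw [hj]
    refine dvd_pow_self 2 ?_
    rintro rfl
    exact absurd hj (Finite.one_lt_card (α := N)).ne'
  have hone : (1 : N) ∈ MulAction.fixedPoints (ConjAct P) N := fun g => smul_one g
  obtain ⟨b, hb, hb1⟩ := (IsPGroup.of_card (p := 2) (n := k)
      (show Nat.card (ConjAct P) = 2 ^ k from hP)).exists_fixed_point_of_prime_dvd_card_of_fixed_point
    N hdvd hone
  rcases hcen _ ((b : P).2) (fun y hy => hfix ⟨b, hb⟩ y hy) with h | h
  · exact absurd (Subtype.ext (Subtype.ext h)) hb1.symm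
  · exact h ▸ b.2

/-- The criterion. -/
theorem isSimple_of_frame (S : Sylow 2 G) (P : Subgroup G) {k : ℕ} (hk : k ≠ 0)
    (hP : Nat.card P = 2 ^ k) (hdvd : ¬ 2 ^ (k + 1) ∣ Nat.card G) (z : G)
    (hcen : ∀ w ∈ P, (∀ y ∈ P, w * y = y * w) → w = 1 ∨ w = z)
    (hgen : ∀ K : Subgroup G, z ∈ K → (∀ g : G, ∀ x ∈ K, g * x * g⁻¹ ∈ P → g * x * g⁻¹ ∈ K) → P ≤ K)
    (hnorm : ∀ h : G, (∀ y ∈ P, h * y * h⁻¹ ∈ P) → ∀ q : ℕ, q.Prime → q ≠ 2 → h ^ q = 1 → h = 1) :
    (groupFusionSystem (S : Subgroup G)).IsSimple 2 := by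
  have : Fact (Nat.Prime 2) := ⟨Nat.prime_two⟩
  obtain ⟨c, hc⟩ := exists_conj_mem_iff S P hP hdvd
  have hS1 : (S : Subgroup G) ≠ ⊥ := by
    intro h
    have hPb : P = ⊥ := by
      rw [eq_bot_iff]
      intro x hx
      have : c * x * c⁻¹ ∈ (S : Subgroup G) := (hc _).mpr (by simpa [mul_assoc] using hx)
      rw [h, Subgroup.mem_bot] at this
      rw [Subgroup.mem_bot]
      simpa [mul_assoc] using congrArg (fun v => c⁻¹ * v * c) this
    rw [hPb, Subgroup.card_bot] at hP
    exact absurd hP.symm (Nat.one_lt_two_pow hk).ne'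
  refine FusionSimple.group_isSimple S hS1 (fun T hT => ?_) (fun E hE => ?_)
  · refine or_iff_not_imp_left.mpr fun hTne => le_antisymm hT.1 fun s hs => ?_
    let K : Subgroup G := T.comap (MulAut.conj c).toMonoidHom
    have hKmem : ∀ x, x ∈ K ↔ c * x * c⁻¹ ∈ T := fun x => Iff.rfl
    have hKP : K ≤ P := fun x hx => by
      simpa [mul_assoc] using (hc _).mp (hT.1 ((hKmem x).mp hx))
    have hclosed : ∀ g : G, ∀ x ∈ K, g * x * g⁻¹ ∈ P → g * x * g⁻¹ ∈ K := by
      intro g x hx hgx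
      have hxT := (hKmem x).mp hx
      have hS' : c * (g * x * g⁻¹) * c⁻¹ ∈ (S : Subgroup G) := (hc _).mpr (by simpa [mul_assoc] using hgx)
      have hd : (c * g * c⁻¹) * (c * x * c⁻¹) * (c * g * c⁻¹)⁻¹ = c * (g * x * g⁻¹) * c⁻¹ := by group
      let Z : Subgroup G := Subgroup.zpowers (c * x * c⁻¹)
      have hZS : Z ≤ (S : Subgroup G) := Subgroup.zpowers_le.mpr (hT.1 hxT)
      let φ : Z →* G := (MulAut.conj (c * g * c⁻¹)).toMonoidHom.comp Z.subtype
      have hφ : φ ∈ (groupFusionSystem (S : Subgroup G)).Hom Z := by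
        refine ⟨hZS, fun v => ?_, c * g * c⁻¹, fun v => rfl⟩
        obtain ⟨v, hv⟩ := v
        obtain ⟨n, rfl⟩ := Subgroup.mem_zpowers_iff.mp hv
        show c * g * c⁻¹ * (c * x * c⁻¹) ^ n * (c * g * c⁻¹)⁻¹ ∈ (S : Subgroup G)
        rw [← MulAut.conj_apply, map_zpow, MulAut.conj_apply, hd]
        exact zpow_mem hS' n
      have := sc_apply hT hφ ⟨_, Subgroup.mem_zpowers _⟩ hxT
      rw [hKmem, ← hd]
      exact this
    have hKne : K ≠ ⊥ := by
      intro h
      refine hTne ((Subgroup.eq_bot_iff_forall _).mpr fun t ht => ?_)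
      have : c⁻¹ * t * c ∈ K := (hKmem _).mpr (by simpa [mul_assoc] using ht)
      rw [h, Subgroup.mem_bot] at this
      simpa [mul_assoc] using congrArg (fun v => c * v * c⁻¹) this
    have hz : z ∈ K := central_mem P K hP z hcen hKP
      (fun y hy x hx => hclosed y x hx (P.mul_mem (P.mul_mem hy (hKP hx)) (P.inv_mem hy))) hKne
    have := (hKmem _).mp (hgen K hz hclosed ((hc s).mp hs))
    simpa [mul_assoc] using this
  · intro α hα
    obtain ⟨g, -, hge⟩ := mem_autInducedBy.mp hα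
    have hgN : g ∈ Subgroup.normalizer ((S : Subgroup G) : Set G) := by
      refine Subgroup.mem_normalizer_iff.mpr fun x => ⟨fun hx => ?_, fun hx => ?_⟩
      · rw [← hge ⟨x, hx⟩]; exact Subtype.mem _
      · obtain ⟨v, hv⟩ := α.surjective ⟨_, hx⟩
        have h1 : g * (v : G) * g⁻¹ = g * x * g⁻¹ := by rw [← hge v, hv]
        rw [← mul_left_cancel (mul_right_cancel h1)]
        exact v.2
    -- every odd part in the normalizer is trivial
    have hodd : ∀ q : ℕ, q.Prime → q ∣ orderOf g → q = 2 := by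
      intro q hq hqd
      by_contra hne
      have hg0 : orderOf g ≠ 0 := (orderOf_pos g).ne'
      set u := g ^ (orderOf g / q) with hu
      have huo : orderOf u = q := orderOf_pow_orderOf_div hg0 hqd
      have huN : u ∈ Subgroup.normalizer ((S : Subgroup G) : Set G) := pow_mem hgN _
      have h1 : c⁻¹ * u * c = 1 := by
        refine hnorm _ (fun y hy => ?_) q hq hne ?_
        · have hyS : c * y * c⁻¹ ∈ (S : Subgroup G) := (hc _).mpr (by simpa [mul_assoc] using hy)
          have := (hc _).mp ((Subgroup.mem_normalizer_iff.mp huN _).mp hyS)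
          simpa [mul_assoc] using this
        · rw [show c⁻¹ * u * c = (MulAut.conj c⁻¹) u by simp, ← map_pow, ← huo, pow_orderOf_eq_one,
            map_one]
      have : u = 1 := by simpa [mul_assoc] using congrArg (fun v => c * v * c⁻¹) h1
      rw [this, orderOf_one] at huo
      exact hq.one_lt.ne huo
    have hpow : ∃ j : ℕ, orderOf g = 2 ^ j :=
      ⟨_, Nat.eq_prime_pow_of_unique_prime_dvd (orderOf_pos g).ne' fun hd hdd => hodd _ hd hdd⟩
    refine hE (S : Subgroup G) ?_ ?_ (mem_autInducedBy.mpr ⟨g, ?_, hge⟩)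
    · refine ⟨le_rfl, fun Q _ => ?_⟩
      have h1 : normalizerIn (S : Subgroup G) (S : Subgroup G) = (S : Subgroup G) :=
        inf_eq_left.mpr Subgroup.le_normalizer
      rw [h1]
      exact Subgroup.card_le_of_le inf_le_left
    · refine ⟨le_rfl, ?_⟩
      rintro Q ⟨φ, hφ, rfl⟩ x hx
      have : φ.range = (S : Subgroup G) := range_eq_of_card_le hφ le_rfl (fun v => apply_mem_S hφ v) le_rfl
      rw [this]
      exact (mem_centralizerIn.mp hx).1
    · exact Subgroup.subset_closure ⟨hgN, hpow⟩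

end CfsgLib.FusionMathieu
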