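import Cfsg.Agent.Lib.FusionMathieu.Groups

/-!
The 2-fusion system of one of the five groups is simple.
-/

set_option autoImplicit false

namespace CfsgLib.FusionMathieu

open Cfsg CfsgLib.Golay

set_option maxRecDepth 100000 in
theorem m11_check :
    mathieuOk inG11 m11Gens m11Z m11Steps m11Words m11Bases m11Oct = true := by
  decide +kernel

theorem m11_isSimple (S : Sylow 2 Cfsg.Spor.M11) : (groupFusionSystem (S : Subgroup Cfsg.Spor.M11)).IsSimple 2 :=
  isSimple_of_check inG11 mem_M11_iff M11_le m11Gens m11Z m11Steps m11Words m11Bases m11Oct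
    (inv_univ _ (by decide)) (by simp [m11Gens]) (by rw [card_M11]; simp [m11Gens]) m11_check S

end CfsgLib.FusionMathieu
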