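import Cfsg.Agent.Lib.FusionMathieu.Groups

/-!
The 2-fusion system of one of the five groups is simple.
-/

set_option autoImplicit false

namespace CfsgLib.FusionMathieu

open Cfsg CfsgLib.Golay

set_option maxRecDepth 100000 in
theorem m24_check :
    mathieuOk inG24 m24Gens m24Z m24Steps m24Words m24Bases m24Oct = true := by
  decide +kernel

theorem m24_isSimple (S : Sylow 2 Cfsg.M24) : (groupFusionSystem (S : Subgroup Cfsg.M24)).IsSimple 2 :=
  isSimple_of_check inG24 mem_M24_iff' le_rfl m24Gens m24Z m24Steps m24Words m24Bases m24Oct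
    (inv_univ _ (by decide)) (by simp [m24Gens]) (by rw [natCard_M24]; simp [m24Gens]) m24_check S

end CfsgLib.FusionMathieu
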